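import Mathlib
import Groth.Agent.Lib.Helper9.GenFree.Main2

/-! helper7: generic universal injectivity: over a domain, a linear map of finite modules over a
finite type algebra with torsion kernel becomes universally injective after inverting one nonzero
element (built on generic freeness by helper9). -/

set_option linter.style.haveILetI false
set_option linter.unusedVariables false
set_option linter.unusedSectionVars false
set_option autoImplicit false

open scoped TensorProduct
open Groth.Agent.Helper9.GenFree

namespace Groth.Agent.Helper7.NowDense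

universe u

/-- `K ⊗ M → K ⊗ M_a` is injective when `a` is a unit in `K`. -/
theorem lTensor_mkLinearMap_injective {R : Type u} [CommRing R] (a : R)
    (M : Type u) [AddCommGroup M] [Module R M]
    (K : Type u) [CommRing K] [Algebra R K] (ha : IsUnit (algebraMap R K a)) :
    Function.Injective
      (LinearMap.lTensor K (LocalizedModule.mkLinearMap (Submonoid.powers a) M)) := by
  have hunit : ∀ s : Submonoid.powers a,
      IsUnit (algebraMap R (Module.End R (K ⊗[R] M)) s) := by
    rintro ⟨s, n, rfl⟩
    have hu : IsUnit (algebraMap R K (a ^ n)) := by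
      rw [map_pow]; exact ha.pow n
    obtain ⟨u, hu⟩ := hu
    rw [Module.End.isUnit_iff]
    have hact : ∀ z : K ⊗[R] M, (algebraMap R (Module.End R (K ⊗[R] M)) (a ^ n)) z = u • z := by
      intro z
      rw [Module.algebraMap_end_apply, ← algebraMap_smul K (a ^ n) z, ← hu]
      rfl
    constructor
    · intro z z' hzz
      change (algebraMap R (Module.End R (K ⊗[R] M)) (a ^ n)) z =
        (algebraMap R (Module.End R (K ⊗[R] M)) (a ^ n)) z' at hzz
      rw [hact, hact] at hzz
      exact MulAction.injective u hzz
    · intro z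
      refine ⟨u⁻¹ • z, ?_⟩
      change (algebraMap R (Module.End R (K ⊗[R] M)) (a ^ n)) (u⁻¹ • z) = z
      rw [hact, smul_inv_smul]
  let ρ : LocalizedModule (Submonoid.powers a) M →ₗ[R] K ⊗[R] M :=
    IsLocalizedModule.lift (Submonoid.powers a) (LocalizedModule.mkLinearMap _ M)
      (TensorProduct.mk R K M 1) hunit
  have hρ : ∀ m : M, ρ (LocalizedModule.mkLinearMap (Submonoid.powers a) M m) = (1 : K) ⊗ₜ[R] m :=
    fun m => IsLocalizedModule.lift_apply (Submonoid.powers a) _ _ hunit m
  let σ : K ⊗[R] LocalizedModule (Submonoid.powers a) M →ₗ[K] K ⊗[R] M :=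
    LinearMap.liftBaseChange K ρ
  have hσ : ∀ z : K ⊗[R] M,
      σ (LinearMap.lTensor K (LocalizedModule.mkLinearMap (Submonoid.powers a) M) z) = z := by
    intro z
    induction z using TensorProduct.induction_on with
    | zero => simp
    | tmul k m =>
      rw [LinearMap.lTensor_tmul, LinearMap.liftBaseChange_tmul, hρ, TensorProduct.smul_tmul',
        smul_eq_mul, mul_one]
    | add x y hx hy => rw [map_add, map_add, hx, hy]
  exact Function.LeftInverse.injective hσ

/-- Generic universal injectivity: a linear map of finite modules over a finite type algebra over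
a domain whose kernel is torsion becomes universally injective after inverting one nonzero
element of the base. -/
theorem exists_forall_lTensor_injective {R : Type u} [CommRing R] [IsDomain R]
    {C : Type u} [CommRing C] [Algebra R C] [Algebra.FiniteType R C]
    {M N : Type u} [AddCommGroup M] [Module R M] [Module C M] [IsScalarTower R C M]
    [Module.Finite C M] [AddCommGroup N] [Module R N] [Module C N] [IsScalarTower R C N]
    [Module.Finite C N]
    (φ : M →ₗ[C] N) (hφ : ∀ m, φ m = 0 → ∃ r : R, r ≠ 0 ∧ r • m = 0) :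
    ∃ a : R, a ≠ 0 ∧ ∀ (K : Type u) [CommRing K] [Algebra R K], IsUnit (algebraMap R K a) →
      Function.Injective (LinearMap.lTensor K (φ.restrictScalars R)) := by
  classical
  obtain ⟨a₁, ha₁, ι₁, b₁, hb₁⟩ := goodRing_of_finiteType' R C M
  obtain ⟨a₂, ha₂, ι₂, b₂, hb₂⟩ := goodRing_of_finiteType' R C (N ⧸ LinearMap.range φ)
  have ha : a₁ * a₂ ≠ 0 := mul_ne_zero ha₁ ha₂
  refine ⟨a₁ * a₂, ha, ?_⟩
  intro K _ _ hK
  have hle : Submonoid.powers (a₁ * a₂) ≤ nonZeroDivisors R :=
    Submonoid.powers_le.mpr (mem_nonZeroDivisors_of_ne_zero ha)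
  haveI : IsDomain (Localization.Away (a₁ * a₂)) := IsLocalization.isDomain_localization hle
  haveI hfM : Module.Free (Localization.Away (a₁ * a₂))
      (LocalizedModule (Submonoid.powers (a₁ * a₂)) M) := (hb₁.mul ha₂).free_localizedModule
  haveI hfQ : Module.Free (Localization.Away (a₁ * a₂))
      (LocalizedModule (Submonoid.powers (a₁ * a₂)) (N ⧸ LinearMap.range φ)) :=
    (hb₂.mul' ha₁).free_localizedModule
  haveI : Module.Flat R (Localization.Away (a₁ * a₂)) :=
    IsLocalization.flat _ (Submonoid.powers (a₁ * a₂))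
  haveI hflQ : Module.Flat R (LocalizedModule (Submonoid.powers (a₁ * a₂))
      (N ⧸ LinearMap.range φ)) :=
    Module.Flat.trans R (Localization.Away (a₁ * a₂)) _
  -- torsion-freeness of the localization of `M`
  have htf : ∀ (r : R) (x : LocalizedModule (Submonoid.powers (a₁ * a₂)) M),
      r ≠ 0 → r • x = 0 → x = 0 := by
    intro r x hr hx
    have h1 : algebraMap R (Localization.Away (a₁ * a₂)) r ≠ 0 := by
      intro h0
      apply hr
      exact IsLocalization.injective (Localization.Away (a₁ * a₂)) hle (by rw [h0, map_zero])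
    rw [← algebraMap_smul (Localization.Away (a₁ * a₂)) r x] at hx
    exact (smul_eq_zero_iff_right h1).mp hx
  let φR : M →ₗ[R] N := φ.restrictScalars R
  let qR : N →ₗ[R] (N ⧸ LinearMap.range φ) := (LinearMap.range φ).mkQ.restrictScalars R
  have hex : Function.Exact φR qR := LinearMap.exact_map_mkQ_range φ
  let mkM := LocalizedModule.mkLinearMap (Submonoid.powers (a₁ * a₂)) M
  let mkN := LocalizedModule.mkLinearMap (Submonoid.powers (a₁ * a₂)) N
  let mkQ := LocalizedModule.mkLinearMap (Submonoid.powers (a₁ * a₂)) (N ⧸ LinearMap.range φ)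
  let φa := IsLocalizedModule.map (Submonoid.powers (a₁ * a₂)) mkM mkN φR
  let qa := IsLocalizedModule.map (Submonoid.powers (a₁ * a₂)) mkN mkQ qR
  have hexa : Function.Exact φa qa :=
    IsLocalizedModule.map_exact (Submonoid.powers (a₁ * a₂)) mkM mkN mkQ φR qR hex
  have hqa : Function.Surjective qa :=
    IsLocalizedModule.map_surjective (Submonoid.powers (a₁ * a₂)) mkN mkQ qR
      (LinearMap.range φ).mkQ_surjective
  have hφa : Function.Injective φa := by
    rw [← LinearMap.ker_eq_bot, LinearMap.ker_eq_bot']
    intro x hx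
    obtain ⟨⟨m, s⟩, hms⟩ := IsLocalizedModule.surj (Submonoid.powers (a₁ * a₂)) mkM x
    have hms' : (s : R) • x = mkM m := hms
    have h1 : mkN (φR m) = 0 := by
      rw [← IsLocalizedModule.map_apply (Submonoid.powers (a₁ * a₂)) mkM mkN φR m, ← hms',
        map_smul]
      change (s : R) • φa x = 0
      rw [hx, smul_zero]
    obtain ⟨s', hs'⟩ := (IsLocalizedModule.eq_zero_iff (Submonoid.powers (a₁ * a₂)) mkN).mp h1
    have hs'' : φ ((s' : R) • m) = 0 := by
      have : (s' : R) • φR m = 0 := hs'
      rw [← map_smul] at this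
      exact this
    obtain ⟨r, hr, hrm⟩ := hφ _ hs''
    have h2 : (r * (s' : R) * (s : R)) • x = 0 := by
      rw [mul_smul, hms', ← map_smul, mul_smul, hrm, map_zero]
    have h3 : r * (s' : R) * (s : R) ≠ 0 :=
      mul_ne_zero (mul_ne_zero hr (nonZeroDivisors.ne_zero (hle s'.2)))
        (nonZeroDivisors.ne_zero (hle s.2))
    exact htf _ x h3 h2
  have hinj : Function.Injective (φa.lTensor K) :=
    LinearMap.lTensor_injective_of_exact_of_flat qa hqa φa hφa hexa K
  have hcomm : (φa.lTensor K) ∘ₗ (mkM.lTensor K) = (mkN.lTensor K) ∘ₗ (φR.lTensor K) := by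
    rw [← LinearMap.lTensor_comp, ← LinearMap.lTensor_comp]
    congr 1
    exact IsLocalizedModule.map_comp (Submonoid.powers (a₁ * a₂)) mkM mkN φR
  intro z z' hzz
  apply lTensor_mkLinearMap_injective (a₁ * a₂) M K hK
  apply hinj
  have h1 := LinearMap.congr_fun hcomm z
  have h2 := LinearMap.congr_fun hcomm z'
  simp only [LinearMap.comp_apply] at h1 h2
  rw [h1, h2]
  change (mkN.lTensor K) ((φR.lTensor K) z) = (mkN.lTensor K) ((φR.lTensor K) z')
  rw [hzz]

end Groth.Agent.Helper7.NowDense
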