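import Mathlib

/-! helper7: elementwise criteria for nowhere density of closed subsets of prime spectra. -/

set_option linter.style.haveILetI false
set_option linter.unusedVariables false
set_option linter.unusedSectionVars false
set_option autoImplicit false

namespace Groth.Agent.Helper7.NowDense

/-- A closed subset `V(s)` of a prime spectrum is nowhere dense iff every `c` such that all `c * x`
(`x ∈ s`) are nilpotent is nilpotent. -/
theorem isNowhereDense_zeroLocus_iff {S : Type*} [CommRing S] (s : Set S) :
    IsNowhereDense (PrimeSpectrum.zeroLocus s) ↔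
      ∀ c : S, (∀ x ∈ s, IsNilpotent (c * x)) → IsNilpotent c := by
  rw [(PrimeSpectrum.isClosed_zeroLocus s).isNowhereDense_iff]
  constructor
  · intro h c hc
    have hsub : (PrimeSpectrum.basicOpen c : Set (PrimeSpectrum S)) ⊆
        PrimeSpectrum.zeroLocus s := by
      intro p hp x hx
      have h1 : c * x ∈ p.asIdeal := by
        obtain ⟨n, hn⟩ := hc x hx
        exact p.isPrime.mem_of_pow_mem n (by rw [hn]; exact zero_mem _)
      rcases p.isPrime.mem_or_mem h1 with h2 | h2
      · exact absurd h2 hp
      · exact h2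
    have h2 : (PrimeSpectrum.basicOpen c : Set (PrimeSpectrum S)) ⊆
        interior (PrimeSpectrum.zeroLocus s) :=
      interior_maximal hsub (PrimeSpectrum.basicOpen c).isOpen
    rw [h] at h2
    have h3 : PrimeSpectrum.basicOpen c = ⊥ := by
      ext p
      constructor
      · intro hp; exact (h2 hp).elim
      · intro hp; exact hp.elim
    exact (PrimeSpectrum.basicOpen_eq_bot_iff c).mp h3
  · intro h
    by_contra hne
    obtain ⟨p, hp⟩ := Set.nonempty_iff_ne_empty.mpr hne
    obtain ⟨_, ⟨c, rfl⟩, hpc, hcs⟩ :=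
      (PrimeSpectrum.isTopologicalBasis_basic_opens (R := S)).exists_subset_of_mem_open hp
        isOpen_interior
    have hcs' : (PrimeSpectrum.basicOpen c : Set (PrimeSpectrum S)) ⊆
        PrimeSpectrum.zeroLocus s := hcs.trans interior_subset
    have hnil : IsNilpotent c := by
      apply h c
      intro x hx
      rw [← PrimeSpectrum.basicOpen_eq_bot_iff]
      ext q
      constructor
      · intro hq
        rw [PrimeSpectrum.basicOpen_mul] at hq
        exact absurd (hcs' hq.1 hx) hq.2
      · intro hq; exact hq.elim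
    obtain ⟨n, hn⟩ := hnil
    exact hpc (p.isPrime.mem_of_pow_mem n (by rw [hn]; exact zero_mem _))

/-- If, modulo an ideal of nilpotents, the annihilator of a finite family is zero, then the common
zero locus of the family is nowhere dense (elementwise form). -/
theorem isNilpotent_of_forall_mul_mem {S : Type*} [CommRing S] (𝔫 : Ideal S)
    (h𝔫 : ∀ x ∈ 𝔫, IsNilpotent x) {ι : Type*} [Finite ι] (g : ι → S)
    (H : ∀ d : S, (∀ i, d * g i ∈ 𝔫) → d ∈ 𝔫) (c : S) (hc : ∀ i, IsNilpotent (c * g i)) :
    IsNilpotent c := by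
  classical
  cases nonempty_fintype ι
  by_contra hcn
  choose m hm using hc
  -- the starting element
  have hstart : c ^ (∑ i, m i) ∉ 𝔫 ∧ ∀ i, ∃ k, c ^ (∑ i, m i) * g i ^ k ∈ 𝔫 := by
    constructor
    · intro hmem
      obtain ⟨k, hk⟩ := h𝔫 _ hmem
      exact hcn ⟨(∑ i, m i) * k, by rw [pow_mul]; exact hk⟩
    · intro i
      refine ⟨m i, ?_⟩
      have hle : m i ≤ ∑ i, m i := Finset.single_le_sum (fun _ _ => Nat.zero_le _)
        (Finset.mem_univ i)
      obtain ⟨e, he⟩ := Nat.exists_eq_add_of_le hle
      have : c ^ (∑ i, m i) * g i ^ m i = c ^ e * (c * g i) ^ m i := by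
        rw [he, mul_pow, pow_add]; ring
      rw [this, hm i, mul_zero]
      exact zero_mem _
  have key : ∀ s : Finset ι, ∃ d : S, (d ∉ 𝔫 ∧ ∀ i, ∃ k, d * g i ^ k ∈ 𝔫) ∧
      ∀ i ∈ s, d * g i ∈ 𝔫 := by
    intro s
    induction s using Finset.induction_on with
    | empty => exact ⟨_, hstart, fun i hi => absurd hi (Finset.notMem_empty i)⟩
    | insert j s hj ih =>
      obtain ⟨d, ⟨hd1, hd2⟩, hd3⟩ := ih
      have hex : ∃ k, d * g j ^ k ∈ 𝔫 := hd2 j
      have hk0 : Nat.find hex ≠ 0 := by
        intro h0
        have := Nat.find_spec hex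
        rw [h0, pow_zero, mul_one] at this
        exact hd1 this
      obtain ⟨k, hk⟩ := Nat.exists_eq_succ_of_ne_zero hk0
      have hmin : d * g j ^ k ∉ 𝔫 := Nat.find_min hex (by rw [hk]; exact Nat.lt_succ_self k)
      have hspec : d * g j ^ (k + 1) ∈ 𝔫 := by
        have := Nat.find_spec hex
        rw [hk] at this
        exact this
      refine ⟨d * g j ^ k, ⟨hmin, fun i => ?_⟩, fun i hi => ?_⟩
      · obtain ⟨k', hk'⟩ := hd2 i
        refine ⟨k', ?_⟩
        have : d * g j ^ k * g i ^ k' = (d * g i ^ k') * g j ^ k := by ring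
        rw [this]
        exact 𝔫.mul_mem_right _ hk'
      · rcases Finset.mem_insert.mp hi with rfl | hi'
        · have : d * g i ^ k * g i = d * g i ^ (k + 1) := by rw [pow_succ]; ring
          rw [this]
          exact hspec
        · have : d * g j ^ k * g i = (d * g i) * g j ^ k := by ring
          rw [this]
          exact 𝔫.mul_mem_right _ (hd3 i hi')
  obtain ⟨d, ⟨hd1, -⟩, hd3⟩ := key Finset.univ
  exact hd1 (H d fun i => hd3 i (Finset.mem_univ i))

end Groth.Agent.Helper7.NowDense
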