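import Mathlib
import Groth.Agent.Lib.Helper7.NowDense.Gui
import Groth.Agent.Lib.Helper7.NowDense.Spec

/-! helper7: nowhere density of a closed subset of the generic fibre of a finite type algebra
spreads out to the fibres over a basic open (algebraic core, via generic universal injectivity). -/

set_option linter.style.haveILetI false
set_option linter.unusedVariables false
set_option linter.unusedSectionVars false
set_option autoImplicit false

open scoped TensorProduct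

namespace Groth.Agent.Helper7.NowDense

universe u

section Domain

variable {R : Type u} [CommRing R] [IsDomain R] {C : Type u} [CommRing C] [Algebra R C]
  (K₀ : Type u) [Field K₀] [Algebra R K₀] [IsFractionRing R K₀]

theorem isLocalizedModule_mk :
    IsLocalizedModule (nonZeroDivisors R) (TensorProduct.mk R K₀ C 1) :=
  (isLocalizedModule_iff_isBaseChange (nonZeroDivisors R) K₀ _).mpr
    (TensorProduct.isBaseChange R C K₀)

theorem exists_smul_eq_tmul (z : K₀ ⊗[R] C) :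
    ∃ (t : R) (c : C), t ≠ 0 ∧ t • z = (1 : K₀) ⊗ₜ[R] c := by
  haveI := isLocalizedModule_mk (R := R) (C := C) K₀
  obtain ⟨⟨c, s⟩, hcs⟩ := IsLocalizedModule.surj (nonZeroDivisors R) (TensorProduct.mk R K₀ C 1) z
  exact ⟨s, c, nonZeroDivisors.ne_zero s.2, hcs⟩

theorem exists_smul_eq_zero_of_tmul_eq_zero (c : C) (h : (1 : K₀) ⊗ₜ[R] c = 0) :
    ∃ t : R, t ≠ 0 ∧ t • c = 0 := by
  haveI := isLocalizedModule_mk (R := R) (C := C) K₀
  obtain ⟨t, ht⟩ := (IsLocalizedModule.eq_zero_iff (nonZeroDivisors R)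
    (TensorProduct.mk R K₀ C 1)).mp h
  exact ⟨t, nonZeroDivisors.ne_zero t.2, ht⟩

theorem eq_zero_of_smul_eq_zero (t : R) (ht : t ≠ 0) (z : K₀ ⊗[R] C) (h : t • z = 0) :
    z = 0 := by
  rw [← algebraMap_smul K₀ t z] at h
  rcases smul_eq_zero.mp h with h' | h'
  · exact absurd ((IsFractionRing.injective R K₀) (by rw [map_zero]; exact h')) ht
  · exact h'

/-- Nowhere density of a closed subset in the generic fibre spreads out, domain case. -/
theorem exists_forall_isNowhereDense_of_isDomain [Algebra.FiniteType R C] (s : Set C)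
    (h : IsNowhereDense (PrimeSpectrum.zeroLocus
      ((fun c : C => (1 : K₀) ⊗ₜ[R] c) '' s))) :
    ∃ a : R, a ≠ 0 ∧ ∀ (K : Type u) [Field K] [Algebra R K], algebraMap R K a ≠ 0 →
      IsNowhereDense (PrimeSpectrum.zeroLocus ((fun c : C => (1 : K) ⊗ₜ[R] c) '' s)) := by
  classical
  set ι₀ : C → K₀ ⊗[R] C := fun c => (1 : K₀) ⊗ₜ[R] c with hι₀
  have hι₀zero : ι₀ 0 = 0 := TensorProduct.tmul_zero _ _
  have hι₀mul : ∀ x y, ι₀ (x * y) = ι₀ x * ι₀ y := by
    intro x y
    change (1 : K₀) ⊗ₜ[R] (x * y) = (1 : K₀) ⊗ₜ[R] x * (1 : K₀) ⊗ₜ[R] y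
    rw [Algebra.TensorProduct.tmul_mul_tmul, one_mul]
  have hι₀pow : ∀ x (n : ℕ), ι₀ (x ^ n) = ι₀ x ^ n := by
    intro x n
    change (1 : K₀) ⊗ₜ[R] (x ^ n) = ((1 : K₀) ⊗ₜ[R] x) ^ n
    rw [Algebra.TensorProduct.tmul_pow, one_pow]
  have hι₀smul : ∀ (t : R) x, ι₀ (t • x) = t • ι₀ x := fun t x => TensorProduct.tmul_smul t _ x
  have hι₀add : ∀ x y, ι₀ (x + y) = ι₀ x + ι₀ y := fun x y => TensorProduct.tmul_add _ x y
  have hι₀sub : ∀ x y, ι₀ (x - y) = ι₀ x - ι₀ y := fun x y => TensorProduct.tmul_sub _ x y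
  haveI : Algebra.FiniteType K₀ (K₀ ⊗[R] C) := inferInstance
  haveI : IsNoetherianRing (K₀ ⊗[R] C) := Algebra.FiniteType.isNoetherianRing K₀ _
  -- Step A: finitely many equations
  have hfgJ : (Submodule.span (K₀ ⊗[R] C) (ι₀ '' s)).FG := IsNoetherian.noetherian _
  obtain ⟨s', hs's, hs'span⟩ := (Submodule.fg_span_iff_fg_span_finset_subset (ι₀ '' s)).mp hfgJ
  have hg : ∀ x : s', ∃ c ∈ s, ι₀ c = x := fun x => hs's x.2
  choose g hgs hgx using hg
  have H₀ : ∀ c₀ : K₀ ⊗[R] C, (∀ i : s', IsNilpotent (c₀ * ι₀ (g i))) → IsNilpotent c₀ := by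
    have h1 : PrimeSpectrum.zeroLocus (ι₀ '' s) =
        PrimeSpectrum.zeroLocus ((s' : Finset (K₀ ⊗[R] C)) : Set (K₀ ⊗[R] C)) := by
      have e1 := PrimeSpectrum.zeroLocus_span (ι₀ '' s)
      have e2 := PrimeSpectrum.zeroLocus_span ((s' : Finset (K₀ ⊗[R] C)) : Set (K₀ ⊗[R] C))
      rw [← e1, ← e2]
      have e3 : Ideal.span (ι₀ '' s) =
          Ideal.span ((s' : Finset (K₀ ⊗[R] C)) : Set (K₀ ⊗[R] C)) := hs'span
      rw [e3]
    rw [h1, isNowhereDense_zeroLocus_iff] at h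
    intro c₀ hc₀
    apply h c₀
    intro x hx
    have := hc₀ ⟨x, hx⟩
    rwa [hgx] at this
  -- Step B: lifting the nilradical
  have hnil_le : ∀ z : K₀ ⊗[R] C, IsNilpotent z →
      z ∈ Submodule.span (K₀ ⊗[R] C) (ι₀ '' {n : C | IsNilpotent n}) := by
    intro z hz
    obtain ⟨t, c, ht, htz⟩ := exists_smul_eq_tmul K₀ z
    obtain ⟨m, hm⟩ := hz
    have htz' : t • z = ι₀ c := htz
    have h1 : ι₀ (c ^ (m + 1)) = 0 := by
      rw [hι₀pow, ← htz', smul_pow, pow_succ z, hm, zero_mul, smul_zero]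
    obtain ⟨t', ht', ht'c⟩ := exists_smul_eq_zero_of_tmul_eq_zero K₀ _ h1
    have hn : IsNilpotent (t' • c) :=
      ⟨m + 1, by rw [smul_pow, pow_succ, mul_smul, ht'c, smul_zero]⟩
    have h2 : (t' * t) • z = ι₀ (t' • c) := by rw [mul_smul, htz', hι₀smul]
    have h3 : algebraMap R K₀ (t' * t) ≠ 0 := by
      intro h0
      exact mul_ne_zero ht' ht ((IsFractionRing.injective R K₀) (by rw [h0, map_zero]))
    have h4 : z = (algebraMap R K₀ (t' * t))⁻¹ • ι₀ (t' • c) := by
      rw [← h2, ← algebraMap_smul K₀ (t' * t) z, inv_smul_smul₀ h3]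
    rw [h4, Algebra.smul_def]
    exact Submodule.smul_mem _ _ (Submodule.subset_span ⟨_, hn, rfl⟩)
  have hfgN : (Submodule.span (K₀ ⊗[R] C) (ι₀ '' {n : C | IsNilpotent n})).FG :=
    IsNoetherian.noetherian _
  obtain ⟨n', hn'sub, hn'span⟩ :=
    (Submodule.fg_span_iff_fg_span_finset_subset (ι₀ '' {n : C | IsNilpotent n})).mp hfgN
  have hν : ∀ x : n', ∃ c : C, IsNilpotent c ∧ ι₀ c = x := fun x => hn'sub x.2
  choose ν hνnil hνx using hν
  let N' : Ideal C := Ideal.span (Set.range ν)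
  have hN'le : N' ≤ nilradical C := Ideal.span_le.mpr (by
    rintro _ ⟨i, rfl⟩
    exact mem_nilradical.mpr (hνnil i))
  have hN'nil : ∀ x ∈ N', IsNilpotent x := fun x hx => mem_nilradical.mp (hN'le hx)
  have hclaim : ∀ z ∈ Submodule.span (K₀ ⊗[R] C) (n' : Set (K₀ ⊗[R] C)),
      ∃ t : R, t ≠ 0 ∧ ∃ n ∈ N', t • z = ι₀ n := by
    intro z hz
    induction hz using Submodule.span_induction with
    | mem x hx =>
      refine ⟨1, one_ne_zero, ν ⟨x, hx⟩, Ideal.subset_span ⟨_, rfl⟩, ?_⟩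
      rw [one_smul, hνx]
    | zero => exact ⟨1, one_ne_zero, 0, N'.zero_mem, by rw [smul_zero, hι₀zero]⟩
    | add x y hx hy ihx ihy =>
      obtain ⟨t₁, ht₁, n₁, hn₁, e₁⟩ := ihx
      obtain ⟨t₂, ht₂, n₂, hn₂, e₂⟩ := ihy
      refine ⟨t₁ * t₂, mul_ne_zero ht₁ ht₂, t₂ • n₁ + t₁ • n₂,
        N'.add_mem (Submodule.smul_of_tower_mem N' t₂ hn₁) (Submodule.smul_of_tower_mem N' t₁ hn₂), ?_⟩
      rw [smul_add, hι₀add, hι₀smul, hι₀smul, ← e₁, ← e₂, mul_comm t₁ t₂, mul_smul,
        mul_comm t₂ t₁, mul_smul]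
    | smul w x hx ih =>
      obtain ⟨t, ht, n, hn, e⟩ := ih
      obtain ⟨t', c, ht', e'⟩ := exists_smul_eq_tmul K₀ w
      have e'' : t' • w = ι₀ c := e'
      refine ⟨t' * t, mul_ne_zero ht' ht, c * n, N'.mul_mem_left c hn, ?_⟩
      rw [hι₀mul, ← e, ← e'', smul_eq_mul, mul_smul, smul_mul_smul_comm, mul_smul]
  have hP2 : ∀ c : C, IsNilpotent (ι₀ c) → ∃ t : R, t ≠ 0 ∧ t • c ∈ N' := by
    intro c hc
    have h1 : ι₀ c ∈ Submodule.span (K₀ ⊗[R] C) (n' : Set (K₀ ⊗[R] C)) := by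
      rw [← hn'span]
      exact hnil_le _ hc
    obtain ⟨t, ht, n, hn, e⟩ := hclaim _ h1
    have h2 : ι₀ (t • c - n) = 0 := by rw [hι₀sub, hι₀smul, e, sub_self]
    obtain ⟨t', ht', e'⟩ := exists_smul_eq_zero_of_tmul_eq_zero K₀ _ h2
    refine ⟨t' * t, mul_ne_zero ht' ht, ?_⟩
    rw [smul_sub, sub_eq_zero] at e'
    rw [mul_smul, e']
    exact Submodule.smul_of_tower_mem N' t' hn
  -- Step C: the annihilator map
  let φ : (C ⧸ N') →ₗ[C] (s' → C ⧸ N') :=
    LinearMap.pi fun i => LinearMap.lsmul C (C ⧸ N') (g i)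
  have hφ : ∀ m, φ m = 0 → ∃ r : R, r ≠ 0 ∧ r • m = 0 := by
    intro m hm
    obtain ⟨c, rfl⟩ := Ideal.Quotient.mk_surjective m
    have h1 : ∀ i, g i * c ∈ N' := by
      intro i
      have h0 := congrFun hm i
      change g i • (Ideal.Quotient.mk N' c) = 0 at h0
      rw [Algebra.smul_def, Ideal.Quotient.algebraMap_eq, ← map_mul] at h0
      exact Ideal.Quotient.eq_zero_iff_mem.mp h0
    have h2 : IsNilpotent (ι₀ c) := by
      apply H₀
      intro i
      obtain ⟨k, hk⟩ := hN'nil _ (h1 i)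
      refine ⟨k, ?_⟩
      rw [mul_comm, ← hι₀mul, ← hι₀pow, hk, hι₀zero]
    obtain ⟨t, ht, htc⟩ := hP2 c h2
    refine ⟨t, ht, ?_⟩
    have h3 : t • (Ideal.Quotient.mk N' c) = Ideal.Quotient.mk N' (t • c) := rfl
    rw [h3]
    exact Ideal.Quotient.eq_zero_iff_mem.mpr htc
  obtain ⟨a, ha, hinj⟩ := exists_forall_lTensor_injective φ hφ
  -- Step D: the fibres
  refine ⟨a, ha, ?_⟩
  intro K _ _ hK
  set ιK : C → K ⊗[R] C := fun c => (1 : K) ⊗ₜ[R] c with hιK
  have hsub : PrimeSpectrum.zeroLocus (ιK '' s) ⊆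
      PrimeSpectrum.zeroLocus (Set.range fun i : s' => ιK (g i)) :=
    PrimeSpectrum.zeroLocus_anti_mono (by
      rintro _ ⟨i, rfl⟩
      exact ⟨g i, hgs i, rfl⟩)
  refine IsNowhereDense.mono hsub ?_
  rw [isNowhereDense_zeroLocus_iff]
  intro c hc
  let π : K ⊗[R] C →ₐ[R] K ⊗[R] (C ⧸ N') :=
    Algebra.TensorProduct.map (AlgHom.id R K) (Ideal.Quotient.mkₐ R N')
  have hker : RingHom.ker π =
      N'.map (Algebra.TensorProduct.includeRight : C →ₐ[R] K ⊗[R] C) := by
    have h0 := Algebra.TensorProduct.lTensor_ker (A := K) (Ideal.Quotient.mkₐ R N')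
      (Ideal.Quotient.mkₐ_surjective R N')
    have hk : RingHom.ker (Ideal.Quotient.mkₐ R N') = N' := by
      ext x
      rw [RingHom.mem_ker]
      exact Ideal.Quotient.eq_zero_iff_mem
    rw [hk] at h0
    exact h0
  refine isNilpotent_of_forall_mul_mem (RingHom.ker π) ?_ (fun i : s' => ιK (g i)) ?_ c
    (fun i => hc _ ⟨i, rfl⟩)
  · intro x hx
    rw [hker] at hx
    have hle : N'.map (Algebra.TensorProduct.includeRight : C →ₐ[R] K ⊗[R] C) ≤
        nilradical (K ⊗[R] C) := by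
      rw [Ideal.map_le_iff_le_comap]
      intro n hn
      obtain ⟨k, hk⟩ := hN'nil n hn
      rw [Ideal.mem_comap]
      exact mem_nilradical.mpr ⟨k, by rw [← map_pow, hk, map_zero]⟩
    exact mem_nilradical.mp (hle hx)
  · intro d hd
    rw [RingHom.mem_ker]
    have hΦ : ∀ d' : K ⊗[R] (C ⧸ N'),
        TensorProduct.piRightHom R R K (fun _ : s' => C ⧸ N')
          (LinearMap.lTensor K (φ.restrictScalars R) d') =
        fun i => d' * ((1 : K) ⊗ₜ[R] (Ideal.Quotient.mk N' (g i))) := by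
      intro d'
      induction d' using TensorProduct.induction_on with
      | zero =>
        rw [map_zero, map_zero]
        ext i
        exact (zero_mul _).symm
      | tmul k x =>
        ext i
        rw [LinearMap.lTensor_tmul, TensorProduct.piRightHom_tmul,
          Algebra.TensorProduct.tmul_mul_tmul, mul_one]
        change k ⊗ₜ[R] (g i • x) = k ⊗ₜ[R] (x * Ideal.Quotient.mk N' (g i))
        rw [Algebra.smul_def, Ideal.Quotient.algebraMap_eq, mul_comm]
      | add x y hx hy =>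
        rw [map_add, map_add, hx, hy]
        ext i
        exact (add_mul _ _ _).symm
    apply hinj K (IsUnit.mk0 _ hK)
    rw [map_zero]
    apply (TensorProduct.piRight R R K (fun _ : s' => C ⧸ N')).injective
    rw [map_zero, TensorProduct.piRight_apply, hΦ]
    ext i
    have h0 := hd i
    rw [RingHom.mem_ker, map_mul] at h0
    have h1 : π (ιK (g i)) = (1 : K) ⊗ₜ[R] (Ideal.Quotient.mk N' (g i)) := by
      change Algebra.TensorProduct.map (AlgHom.id R K) (Ideal.Quotient.mkₐ R N')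
        ((1 : K) ⊗ₜ[R] (g i)) = _
      rw [Algebra.TensorProduct.map_tmul]
      rfl
    rw [h1] at h0
    exact h0

end Domain

/-- Nowhere density of zero loci transfers along ring isomorphisms. -/
theorem isNowhereDense_zeroLocus_image_ringEquiv {S₁ S₂ : Type*} [CommRing S₁] [CommRing S₂]
    (e : S₁ ≃+* S₂) (T : Set S₁) :
    IsNowhereDense (PrimeSpectrum.zeroLocus (e '' T)) ↔
      IsNowhereDense (PrimeSpectrum.zeroLocus T) := by
  rw [isNowhereDense_zeroLocus_iff, isNowhereDense_zeroLocus_iff]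
  constructor
  · intro h c hc
    have h1 : IsNilpotent (e c) := by
      apply h
      rintro _ ⟨x, hx, rfl⟩
      rw [← map_mul]
      exact (hc x hx).map e
    have h2 := h1.map e.symm
    rwa [RingEquiv.symm_apply_apply] at h2
  · intro h c hc
    have h1 : IsNilpotent (e.symm c) := by
      apply h
      intro x hx
      have h0 := (hc (e x) ⟨x, hx, rfl⟩).map e.symm
      rwa [map_mul, RingEquiv.symm_apply_apply] at h0
    have h2 := h1.map e
    rwa [RingEquiv.apply_symm_apply] at h2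

/-- Nowhere density of a closed subset in the fibre over a minimal-type point spreads out to a
basic open. -/
theorem exists_forall_isNowhereDense {A B : Type u} [CommRing A] [CommRing B] [Algebra A B]
    [Algebra.FiniteType A B] (K₀ : Type u) [Field K₀] [Algebra A K₀]
    (hfrac : ∀ z : K₀, ∃ s a : A, algebraMap A K₀ s ≠ 0 ∧
      algebraMap A K₀ s * z = algebraMap A K₀ a)
    (s : Set B)
    (h : IsNowhereDense (PrimeSpectrum.zeroLocus ((fun b : B => b ⊗ₜ[A] (1 : K₀)) '' s))) :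
    ∃ a : A, algebraMap A K₀ a ≠ 0 ∧ ∀ (K : Type u) [Field K] [Algebra A K],
      (∀ t : A, algebraMap A K₀ t = 0 → algebraMap A K t = 0) → algebraMap A K a ≠ 0 →
      IsNowhereDense (PrimeSpectrum.zeroLocus ((fun b : B => b ⊗ₜ[A] (1 : K)) '' s)) := by
  classical
  let p₀ : Ideal A := RingHom.ker (algebraMap A K₀)
  haveI : p₀.IsPrime := RingHom.ker_isPrime _
  let R := A ⧸ p₀
  let φ₀ : R →+* K₀ := RingHom.kerLift (algebraMap A K₀)
  have hφ₀ : Function.Injective φ₀ := RingHom.kerLift_injective _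
  letI algRK₀ : Algebra R K₀ := φ₀.toAlgebra
  haveI : IsScalarTower A R K₀ := IsScalarTower.of_algebraMap_eq (fun t => rfl)
  haveI : FaithfulSMul R K₀ := (faithfulSMul_iff_algebraMap_injective R K₀).mpr hφ₀
  haveI : IsFractionRing R K₀ := IsFractionRing.of_field R K₀ (fun z => by
    obtain ⟨s, a, hs, hsa⟩ := hfrac z
    refine ⟨Ideal.Quotient.mk p₀ a, Ideal.Quotient.mk p₀ s, ?_⟩
    change z = algebraMap A K₀ a / algebraMap A K₀ s
    rw [eq_div_iff hs, mul_comm]
    exact hsa)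
  let C := R ⊗[A] B
  let sC : Set C := (fun b : B => (1 : R) ⊗ₜ[A] b) '' s
  have himage : ∀ (K : Type u) [Field K] [Algebra A K] [Algebra R K] [IsScalarTower A R K],
      (((Algebra.TensorProduct.cancelBaseChange A R K K B).toRingEquiv.trans
        (Algebra.TensorProduct.comm A K B).toRingEquiv : K ⊗[R] C ≃+* B ⊗[A] K) ''
        ((fun c : C => (1 : K) ⊗ₜ[R] c) '' sC)) = (fun b : B => b ⊗ₜ[A] (1 : K)) '' s := by
    intro K _ _ _ _
    have hval : ∀ b : B,
        ((Algebra.TensorProduct.cancelBaseChange A R K K B).toRingEquiv.trans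
          (Algebra.TensorProduct.comm A K B).toRingEquiv : K ⊗[R] C ≃+* B ⊗[A] K)
          ((1 : K) ⊗ₜ[R] ((1 : R) ⊗ₜ[A] b)) = b ⊗ₜ[A] (1 : K) := by
      intro b
      change (Algebra.TensorProduct.comm A K B)
        ((Algebra.TensorProduct.cancelBaseChange A R K K B) ((1 : K) ⊗ₜ[R] ((1 : R) ⊗ₜ[A] b))) = _
      rw [Algebra.TensorProduct.cancelBaseChange_tmul, one_smul,
        Algebra.TensorProduct.comm_tmul]
    ext w
    constructor
    · rintro ⟨_, ⟨_, ⟨b, hb, rfl⟩, rfl⟩, rfl⟩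
      exact ⟨b, hb, (hval b).symm⟩
    · rintro ⟨b, hb, rfl⟩
      exact ⟨_, ⟨_, ⟨b, hb, rfl⟩, rfl⟩, hval b⟩
  have h1 : IsNowhereDense (PrimeSpectrum.zeroLocus
      ((fun c : C => (1 : K₀) ⊗ₜ[R] c) '' sC)) := by
    rw [← isNowhereDense_zeroLocus_image_ringEquiv
      ((Algebra.TensorProduct.cancelBaseChange A R K₀ K₀ B).toRingEquiv.trans
        (Algebra.TensorProduct.comm A K₀ B).toRingEquiv), himage K₀]
    exact h
  obtain ⟨a', ha', hK⟩ := exists_forall_isNowhereDense_of_isDomain (R := R) (C := C) K₀ sC h1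
  obtain ⟨a, rfl⟩ := Ideal.Quotient.mk_surjective a'
  refine ⟨a, fun h0 => ha' (Ideal.Quotient.eq_zero_iff_mem.mpr h0), ?_⟩
  intro K _ _ hker haK
  let φ : R →+* K := Ideal.Quotient.lift p₀ (algebraMap A K) (fun t ht => hker t ht)
  letI algRK : Algebra R K := φ.toAlgebra
  haveI : IsScalarTower A R K := IsScalarTower.of_algebraMap_eq (fun t => rfl)
  have haK' : algebraMap R K (Ideal.Quotient.mk p₀ a) ≠ 0 := haK
  have h2 := hK K haK'
  rw [← isNowhereDense_zeroLocus_image_ringEquiv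
    ((Algebra.TensorProduct.cancelBaseChange A R K K B).toRingEquiv.trans
      (Algebra.TensorProduct.comm A K B).toRingEquiv), himage K] at h2
  exact h2

end Groth.Agent.Helper7.NowDense
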