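import Mathlib
import Groth.Agent.Lib.Helper7.NowDense.Alg
import Groth.Agent.Lib.Helper7.NearGen.Main
import Groth.Agent.Lib.Helper4.FiberChart
import Groth.Agent.Lib.Helper4.RadBir3

/-! helper7: a closed subset of the source of a finite type morphism to an irreducible scheme whose
trace on the generic fibre is nowhere dense has nowhere dense traces on the fibres over a nonempty
open (fibre charts by helper4). -/

set_option linter.style.haveILetI false
set_option linter.unusedVariables false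
set_option linter.unusedSectionVars false
set_option autoImplicit false
set_option backward.isDefEq.respectTransparency.types false

open CategoryTheory CategoryTheory.Limits AlgebraicGeometry TopologicalSpace
open scoped TensorProduct

namespace Groth.Agent.Helper7.NowDense

universe u

open Groth.Agent.Lib.Helper4.FiberChart

theorem isNowhereDense_preimage_of_isOpenEmbedding {O F : Type*} [TopologicalSpace O]
    [TopologicalSpace F] {l : O → F} (hl : Topology.IsOpenEmbedding l) {Z' : Set F}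
    (hZ' : IsNowhereDense Z') : IsNowhereDense (l ⁻¹' Z') := by
  have h1 : closure (l ⁻¹' Z') ⊆ l ⁻¹' closure Z' := hl.continuous.closure_preimage_subset Z'
  have h2 : interior (closure (l ⁻¹' Z')) ⊆ interior (l ⁻¹' closure Z') := interior_mono h1
  rw [← hl.isOpenMap.preimage_interior_eq_interior_preimage hl.continuous] at h2
  have h3 : interior (closure Z') = ∅ := hZ'
  rw [h3, Set.preimage_empty] at h2
  exact Set.subset_empty_iff.mp h2

section Dict

variable {X Y : Scheme.{u}} (f : X ⟶ Y) {V : Y.Opens} (hV : IsAffineOpen V)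
  {W : X.Opens} (hW : IsAffineOpen W) (e : W ≤ f ⁻¹ᵁ V)

/-- The trace of a closed subset on a chart of a fibre. -/
theorem chart_preimage_eq (y : Y) (hy : y ∈ V) (Z : Set X) (s : Set Γ(X, W))
    (hs : hW.fromSpec ⁻¹' Z = PrimeSpectrum.zeroLocus s) :
    letI := (f.appLE V W e).hom.toAlgebra
    letI := (Y.evaluation V y hy).hom.toAlgebra
    ∀ (l : Spec (.of (Γ(X, W) ⊗[Γ(Y, V)] (Y.residueField y))) ⟶ f.fiber y),
      l ≫ f.fiberι y = Spec.map (CommRingCat.ofHom
        (Algebra.TensorProduct.includeLeftRingHom :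
          Γ(X, W) →+* Γ(X, W) ⊗[Γ(Y, V)] (Y.residueField y))) ≫ hW.fromSpec →
      l ⁻¹' ((f.fiberι y) ⁻¹' Z) = PrimeSpectrum.zeroLocus
        ((fun b : Γ(X, W) => b ⊗ₜ[Γ(Y, V)] (1 : Y.residueField y)) '' s) := by
  letI := (f.appLE V W e).hom.toAlgebra
  letI := (Y.evaluation V y hy).hom.toAlgebra
  intro l hl
  ext w
  have h1 : (f.fiberι y) (l w) = hW.fromSpec ((Spec.map (CommRingCat.ofHom
        (Algebra.TensorProduct.includeLeftRingHom :
          Γ(X, W) →+* Γ(X, W) ⊗[Γ(Y, V)] (Y.residueField y)))) w) := by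
    rw [← Scheme.Hom.comp_apply, ← Scheme.Hom.comp_apply, hl]
  constructor
  · intro hw
    have h2 : (f.fiberι y) (l w) ∈ Z := hw
    rw [h1] at h2
    have h3 : (Spec.map (CommRingCat.ofHom
        (Algebra.TensorProduct.includeLeftRingHom :
          Γ(X, W) →+* Γ(X, W) ⊗[Γ(Y, V)] (Y.residueField y)))) w ∈ hW.fromSpec ⁻¹' Z := h2
    rw [hs] at h3
    rintro _ ⟨b, hb, rfl⟩
    exact h3 hb
  · intro hw
    change (f.fiberι y) (l w) ∈ Z
    rw [h1]
    have h3 : (Spec.map (CommRingCat.ofHom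
        (Algebra.TensorProduct.includeLeftRingHom :
          Γ(X, W) →+* Γ(X, W) ⊗[Γ(Y, V)] (Y.residueField y)))) w ∈ hW.fromSpec ⁻¹' Z := by
      rw [hs]
      intro b hb
      exact hw ⟨b, hb, rfl⟩
    exact h3

include hV hW e in
/-- Nowhere density on one chart. -/
theorem exists_of_nowhereDense_chart [IrreducibleSpace Y] [LocallyOfFiniteType f]
    (hη : genericPoint Y ∈ V) (Z : Set X) (hZ : IsClosed Z)
    (h : IsNowhereDense ((f.fiberι (genericPoint Y)) ⁻¹' Z)) :
    ∃ a : Γ(Y, V), genericPoint Y ∈ Y.basicOpen a ∧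
      ∀ (y : Y) (hy : y ∈ V), y ∈ Y.basicOpen a →
        letI := (f.appLE V W e).hom.toAlgebra
        letI := (Y.evaluation V y hy).hom.toAlgebra
        IsNowhereDense (PrimeSpectrum.zeroLocus
          ((fun b : Γ(X, W) => b ⊗ₜ[Γ(Y, V)] (1 : Y.residueField y)) ''
            (PrimeSpectrum.vanishingIdeal (hW.fromSpec ⁻¹' Z) : Set Γ(X, W)))) := by
  letI algB : Algebra Γ(Y, V) Γ(X, W) := (f.appLE V W e).hom.toAlgebra
  letI algK₀ : Algebra Γ(Y, V) (Y.residueField (genericPoint Y)) :=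
    (Y.evaluation V (genericPoint Y) hη).hom.toAlgebra
  haveI : Algebra.FiniteType Γ(Y, V) Γ(X, W) :=
    LocallyOfFiniteType.finiteType_appLE f hV hW e
  have hcl : IsClosed (hW.fromSpec ⁻¹' Z) := hZ.preimage hW.fromSpec.continuous
  have hs : hW.fromSpec ⁻¹' Z = PrimeSpectrum.zeroLocus
      (PrimeSpectrum.vanishingIdeal (hW.fromSpec ⁻¹' Z) : Set Γ(X, W)) := by
    rw [PrimeSpectrum.zeroLocus_vanishingIdeal_eq_closure]
    exact hcl.closure_eq.symm
  have hfrac : ∀ z : Y.residueField (genericPoint Y), ∃ s a : Γ(Y, V),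
      algebraMap Γ(Y, V) (Y.residueField (genericPoint Y)) s ≠ 0 ∧
      algebraMap Γ(Y, V) (Y.residueField (genericPoint Y)) s * z =
        algebraMap Γ(Y, V) (Y.residueField (genericPoint Y)) a := by
    intro z
    obtain ⟨s, a, hs, hsa⟩ :=
      Groth.Agent.Lib.Helper4.RadBir3.exists_frac_rho hV (genericPoint Y) hη z
    refine ⟨s, a, ?_, hsa⟩
    intro h0
    apply hs
    rw [← Groth.Agent.Lib.Helper4.NormFibre2.ker_rho hV (genericPoint Y) hη, RingHom.mem_ker]
    exact h0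
  -- the generic chart
  have hgen : IsNowhereDense (PrimeSpectrum.zeroLocus
      ((fun b : Γ(X, W) => b ⊗ₜ[Γ(Y, V)] (1 : Y.residueField (genericPoint Y))) ''
        (PrimeSpectrum.vanishingIdeal (hW.fromSpec ⁻¹' Z) : Set Γ(X, W)))) := by
    obtain ⟨l, hl, hl2, -⟩ := fiberChart f hV hW e (genericPoint Y) hη
    rw [← chart_preimage_eq f hW e (genericPoint Y) hη Z _ hs l hl2]
    exact isNowhereDense_preimage_of_isOpenEmbedding l.isOpenEmbedding h
  obtain ⟨a, ha, hK⟩ := exists_forall_isNowhereDense (A := Γ(Y, V)) (B := Γ(X, W))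
    (Y.residueField (genericPoint Y)) hfrac _ hgen
  have hηa : genericPoint Y ∈ Y.basicOpen a :=
    (Y.evaluation_ne_zero_iff_mem_basicOpen (genericPoint Y) hη a).mp ha
  refine ⟨a, hηa, fun y hyV hya => ?_⟩
  letI algK : Algebra Γ(Y, V) (Y.residueField y) := (Y.evaluation V y hyV).hom.toAlgebra
  apply hK (Y.residueField y)
  · intro t ht
    by_contra hne
    have h1 : y ∈ Y.basicOpen t := (Y.evaluation_ne_zero_iff_mem_basicOpen y hyV t).mp hne
    have h2 : genericPoint Y ∈ Y.basicOpen t :=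
      ((genericPoint_spec Y).mem_open_set_iff (Y.basicOpen t).isOpen).mpr ⟨y, trivial, h1⟩
    exact (Y.evaluation_ne_zero_iff_mem_basicOpen (genericPoint Y) hη t).mpr h2 ht
  · exact (Y.evaluation_ne_zero_iff_mem_basicOpen y hyV a).mpr hya

end Dict

/-- A closed subset whose trace on the generic fibre is nowhere dense has nowhere dense traces on
the fibres over a nonempty open. -/
theorem nowhereDense_fibres_near_generic {X Y : Scheme.{u}} (f : X ⟶ Y) [IrreducibleSpace Y]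
    [LocallyOfFiniteType f] [QuasiCompact f] (Z : Set X) (hZ : IsClosed Z)
    (h : IsNowhereDense ((f.fiberι (genericPoint Y)) ⁻¹' Z)) :
    ∃ V : Y.Opens, genericPoint Y ∈ V ∧ ∀ y ∈ V, IsNowhereDense ((f.fiberι y) ⁻¹' Z) := by
  classical
  obtain ⟨V₀, hV₀, hηV₀⟩ : ∃ V : Y.Opens, IsAffineOpen V ∧ genericPoint Y ∈ V := by
    obtain ⟨_, ⟨V, hV, rfl⟩, hy, -⟩ := (Y.isBasis_affineOpens).exists_subset_of_mem_open
      (Set.mem_univ (genericPoint Y)) isOpen_univ
    exact ⟨V, hV, hy⟩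
  have hcomp : IsCompact ((f ⁻¹ᵁ V₀ : X.Opens) : Set X) :=
    QuasiCompact.isCompact_preimage (f := f) _ V₀.isOpen hV₀.isCompact
  obtain ⟨t, ht1, ht2⟩ :=
    Groth.Agent.Helper7.FinType.exists_finset_affine_cover (f ⁻¹ᵁ V₀) hcomp
  have hex : ∀ W : t, ∃ a : Γ(Y, V₀), genericPoint Y ∈ Y.basicOpen a ∧
      ∀ (y : Y) (hy : y ∈ V₀), y ∈ Y.basicOpen a →
        letI := (f.appLE V₀ W.1 (ht1 W.1 W.2).2).hom.toAlgebra
        letI := (Y.evaluation V₀ y hy).hom.toAlgebra
        IsNowhereDense (PrimeSpectrum.zeroLocus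
          ((fun b : Γ(X, W.1) => b ⊗ₜ[Γ(Y, V₀)] (1 : Y.residueField y)) ''
            (PrimeSpectrum.vanishingIdeal ((ht1 W.1 W.2).1.fromSpec ⁻¹' Z) :
              Set Γ(X, W.1)))) := fun W =>
    exists_of_nowhereDense_chart f hV₀ (ht1 W.1 W.2).1 (ht1 W.1 W.2).2 hηV₀ Z hZ h
  choose a ha1 ha2 using hex
  refine ⟨Y.basicOpen (∏ W : t, a W),
    (Groth.Agent.Helper7.NearGen.mem_basicOpen_prod a _ hηV₀).mpr ha1, ?_⟩
  intro y hy
  have hyV₀ : y ∈ V₀ := Y.basicOpen_le _ hy
  have hclosed : IsClosed ((f.fiberι y) ⁻¹' Z) := hZ.preimage (f.fiberι y).continuous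
  rw [hclosed.isNowhereDense_iff]
  by_contra hne
  obtain ⟨z, hz⟩ := Set.nonempty_iff_ne_empty.mpr hne
  have hfz : f ((f.fiberι y) z) = y := by
    have : (f.fiberι y) z ∈ Set.range (f.fiberι y) := ⟨z, rfl⟩
    rw [Scheme.Hom.range_fiberι] at this
    exact this
  have hxV : (f.fiberι y) z ∈ f ⁻¹ᵁ V₀ := by
    change f ((f.fiberι y) z) ∈ V₀
    rw [hfz]; exact hyV₀
  obtain ⟨W, hWt, hxW⟩ := ht2 _ hxV
  letI := (f.appLE V₀ W (ht1 W hWt).2).hom.toAlgebra
  letI := (Y.evaluation V₀ y hyV₀).hom.toAlgebra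
  obtain ⟨l, hl, hl2, hrange⟩ := fiberChart f hV₀ (ht1 W hWt).1 (ht1 W hWt).2 y hyV₀
  haveI := hl
  have hzr : z ∈ Set.range l := by
    rw [hrange]; exact hxW
  obtain ⟨w, rfl⟩ := hzr
  have hcl : IsClosed ((ht1 W hWt).1.fromSpec ⁻¹' Z) :=
    hZ.preimage (ht1 W hWt).1.fromSpec.continuous
  have hs : (ht1 W hWt).1.fromSpec ⁻¹' Z = PrimeSpectrum.zeroLocus
      (PrimeSpectrum.vanishingIdeal ((ht1 W hWt).1.fromSpec ⁻¹' Z) : Set Γ(X, W)) := by
    rw [PrimeSpectrum.zeroLocus_vanishingIdeal_eq_closure]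
    exact hcl.closure_eq.symm
  have hnd := ha2 ⟨W, hWt⟩ y hyV₀
    ((Groth.Agent.Helper7.NearGen.mem_basicOpen_prod a _ hyV₀).mp hy ⟨W, hWt⟩)
  rw [← chart_preimage_eq f (ht1 W hWt).1 (ht1 W hWt).2 y hyV₀ Z _ hs l hl2] at hnd
  have hcl2 : IsClosed (l ⁻¹' ((f.fiberι y) ⁻¹' Z)) := hclosed.preimage l.continuous
  have hnd' : interior (closure (l ⁻¹' ((f.fiberι y) ⁻¹' Z))) = ∅ := hnd
  rw [hcl2.closure_eq] at hnd'
  have hw : w ∈ interior (l ⁻¹' ((f.fiberι y) ⁻¹' Z)) := by
    rw [← l.isOpenEmbedding.isOpenMap.preimage_interior_eq_interior_preimage l.continuous]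
    exact hz
  rw [hnd'] at hw
  exact hw

end Groth.Agent.Helper7.NowDense
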